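import Cfsg.Agent.Lib.BlockOneSection.Principal
import Cfsg.Agent.Lib.Blk83.PrincipalColumn
import Cfsg.Agent.Lib.KGV.DefectZeroBound
import Cfsg.Agent.Lib.RealChar.Indicator
import Cfsg.Agent.Lib.Char.FrobeniusSchur

/-!
# The column of the non-trivial section of the principal block
-/

set_option autoImplicit false
set_option maxHeartbeats 1000000
set_option synthInstance.maxHeartbeats 400000

open Cfsg CfsgLib.Blocks CfsgLib.BlockRank
open scoped Classical ComplexConjugate

namespace CfsgLib.OneSection

universe u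

variable {G : Type u} [Group G] [Fintype G] {p : ℕ} [Fact p.Prime] {M : Ideal AlgInt}

/-- The complex conjugate of a member of the principal block is a member. -/
theorem exists_conj_mem {χ : IrrCharacter G} (hχ : χ ∈ principalBlock M G) :
    ∃ ψ ∈ principalBlock M G, ∀ g, (ψ : G → ℂ) g = conj ((χ : G → ℂ) g) := by
  refine ⟨⟨_, CfsgLib.Char.IsIrrCharacter.conj_apply' χ.2⟩, fun g => ?_, fun g => rfl⟩
  have h := hχ g⁻¹
  have hC : Subgroup.centralizer ({g⁻¹} : Set G) = Subgroup.centralizer ({g} : Set G) := by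
    rw [← Subgroup.centralizer_closure, ← Subgroup.zpowers_eq_closure, Subgroup.zpowers_inv,
      Subgroup.zpowers_eq_closure, Subgroup.centralizer_closure]
  show MemLocalIdeal M (centralChar (fun _ : G => (1 : ℂ)) g -
    centralChar (fun x : G => conj ((χ : G → ℂ) x)) g)
  unfold centralChar at h ⊢
  simp only [hC, CfsgLib.Char.IsIrrCharacter.apply_inv χ.2] at h
  simp only [← CfsgLib.BlockReg.deg_cast χ, map_natCast] at h ⊢
  exact h

/-- The column of the non-trivial section. -/
theorem exists_column (hM : IsPModular p M)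
    (hk : Nat.card (principalBlock M G) = blockRank p (principalBlock M G) + 1) (P : Sylow p G)
    {x : G} (hx : x ∈ (P : Subgroup G)) (hx1 : x ≠ 1) :
    ∃ d : IrrCharacter G → ℤ,
      (∀ χ ∈ principalBlock M G, (χ : G → ℂ) x = d χ) ∧
      ∑ χ ∈ (principalBlock M G).toFinset, d χ ^ 2 = (Nat.card (P : Subgroup G) : ℤ) ∧
      ∑ χ ∈ (principalBlock M G).toFinset, d χ * (charDegree (χ : G → ℂ) : ℤ) = 0 ∧
      (p ≠ 2 → ∑ χ ∈ (principalBlock M G).toFinset,
        CfsgLib.RealChar.fsInd (χ : G → ℂ) * (d χ : ℂ) = 1) := by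
  have : M.IsMaximal := hM.2.1
  have hp : p.Prime := Fact.out
  have hxp := exists_orderOf_eq_of_mem P hx
  have hEA := isElementaryAbelian_sylow_principal hM hk P
  have hxo : orderOf x = p := orderOf_eq_prime (hEA.2 x hx) hx1
  -- integrality
  have hint : ∀ χ : IrrCharacter G, ∃ c : ℤ, (χ : G → ℂ) x = c := fun χ => by
    obtain ⟨c, hc, -⟩ := CfsgLib.KGV.exists_int_of_const_on_powers
      (CfsgLib.Char.IsIrrCharacter.isCharacter χ.2) hxo
      (fun j hj => by
        have hj1 : x ^ j ≠ 1 := fun h => hj (hxo ▸ orderOf_dvd_of_pow_eq_one h)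
        obtain ⟨g, hg⟩ := isConj_iff.1 (isConj_of_principal hM hk P hx (pow_mem hx j) hx1 hj1)
        rw [← hg, CfsgLib.Char.IsIrrCharacter.isClassFunction χ.2 x g])
      (CfsgLib.BlockReg.deg_cast χ).symm
    exact ⟨c, hc⟩
  choose d hd using hint
  -- the centralizer
  set C := Subgroup.centralizer ({x} : Set G) with hC
  haveI : Fintype C := Fintype.ofFinite C
  obtain ⟨K, hK, hKp, k, hkK⟩ := CfsgLib.Transfer.hasNormalPComplement_iff_exists_normal.mp
    (hasNormalPComplement_centralizer hM hk hxp hx1)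
  haveI := hK
  have hregK : ∀ c : C, IsPRegular p c ↔ c ∈ K := fun c => by
    constructor
    · intro hc
      rw [← QuotientGroup.eq_one_iff, ← orderOf_eq_one_iff]
      have h3 : orderOf (c : C ⧸ K) ∣ p ^ k := hkK ▸ orderOf_dvd_natCard _
      exact Nat.eq_one_of_dvd_coprimes ((hp.coprime_iff_not_dvd.mpr hc).pow_left k).symm
        (orderOf_map_dvd (QuotientGroup.mk' K) c) h3
    · intro hc hd'
      refine hKp (hd'.trans ?_)
      have := orderOf_dvd_natCard (⟨c, hc⟩ : K)
      rwa [Subgroup.orderOf_mk] at this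
  have hpC : Nat.card C = Nat.card (P : Subgroup G) * Nat.card K := by
    have hPC : (P : Subgroup G) ≤ C := fun y hy => Subgroup.mem_centralizer_singleton_iff.2
      (congrArg Subtype.val (hEA.1.is_comm.comm (⟨y, hy⟩ : (P : Subgroup G)) ⟨x, hx⟩))
    have h1 := Subgroup.card_mul_index K
    rw [hkK] at h1
    obtain ⟨n, hn⟩ := IsPGroup.iff_card.1 P.2
    have h2 : p ^ n ∣ p ^ k * Nat.card K :=
      hn ▸ (Subgroup.card_dvd_of_le hPC).trans (by rw [mul_comm, h1])
    have h3 : p ^ k ∣ p ^ n := by
      rw [← hn, P.card_eq_multiplicity]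
      refine pow_dvd_pow p ((hp.pow_dvd_iff_le_factorization Nat.card_pos.ne').1 ?_)
      exact (Dvd.intro_left _ h1).trans (Subgroup.card_subgroup_dvd_card C)
    have h4 : p ^ n ∣ p ^ k :=
      (Nat.Coprime.dvd_of_dvd_mul_right ((hp.coprime_iff_not_dvd.mpr hKp).pow_left n) h2)
    rw [← h1, hn, Nat.dvd_antisymm h4 h3, mul_comm]
  -- constancy on the section
  have hψ : ∀ ψ ∈ principalBlock M C, ∀ s : C, s ∈ K → (ψ : C → ℂ) s = (ψ : C → ℂ) 1 := by
    intro ψ hψ s hs
    have h := CfsgLib.Invol.apply_mul_of_mem_principalBlock hM hKp hψ hs 1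
    rwa [one_mul] at h
  have hconst : ∀ χ ∈ principalBlock M G, ∀ s : C, s ∈ K →
      (χ : G → ℂ) (x * s) = (χ : G → ℂ) x := by
    intro χ hχ s hs
    haveI : Fintype {B : Set (IrrCharacter C) // IsPBlock M B} := Fintype.ofFinite _
    haveI : Fintype ↥(principalBlock M C) := Fintype.ofFinite _
    have hcl := isClassFunction_translate (C := C) hC (x := x) χ
    have hproj : ∀ t : C, t ∈ K → (χ : G → ℂ) (x * t) =
        blockPart (principalBlock M C) (fun c : C => (χ : G → ℂ) (x * c)) t := by
      intro t ht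
      have h2 := sum_blockPart_blocks hM hcl t
      rw [Finset.sum_eq_single (⟨principalBlock M C, isPBlock_principalBlock⟩ :
        {B : Set (IrrCharacter C) // IsPBlock M B})] at h2
      · exact h2
      · intro b _ hne
        refine Cfsg.Agent.S0923.result p M hM x hxp _ isPBlock_principalBlock χ hχ b.1 b.2
          (fun h => hne (Subtype.ext ?_)) t ((hregK t).2 ht)
        exact (isInducedBlock_principal_iff hM ⟨_, h⟩).mp h
      · exact fun h => absurd (Finset.mem_univ _) h
    have h1 := hproj 1 (one_mem K)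
    rw [OneMemClass.coe_one, mul_one] at h1
    rw [hproj s hs, h1, blockPart_apply, blockPart_apply]
    exact Finset.sum_congr rfl fun ψ hψ' => by rw [hψ ψ (Set.mem_toFinset.1 hψ') s hs]
  refine ⟨d, fun χ _ => hd χ, ?_, ?_, fun hp2 => ?_⟩
  · have h := sum_section_eq hM hC hxp (B := principalBlock M G) isPBlock_principalBlock
    change _ = (Nat.card C : ℂ) * ((secRank p M (principalBlock M G) x : ℕ) : ℂ) at h
    rw [secRank_eq_one hM hk hxp hx1, Nat.cast_one, mul_one, hpC] at h
    have hcardreg : (regSet (G := C) p).card = Nat.card K := by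
      rw [Nat.card_eq_fintype_card, ← Fintype.card_coe]
      exact Fintype.card_congr (Equiv.subtypeEquivRight fun c => by simp [regSet, hregK])
    have hrow : ∀ χ ∈ (principalBlock M G).toFinset,
        ∑ s ∈ regSet p, (χ : G → ℂ) (x * (s : C)) * conj ((χ : G → ℂ) (x * (s : C))) =
          (Nat.card K : ℂ) * ((d χ ^ 2 : ℤ) : ℂ) := by
      intro χ hχ
      rw [Finset.sum_congr rfl (g := fun _ => ((d χ ^ 2 : ℤ) : ℂ)) fun s hs => ?_,
        Finset.sum_const, hcardreg, nsmul_eq_mul]
      rw [hconst χ (Set.mem_toFinset.1 hχ) s ((hregK s).1 (Finset.mem_filter.1 hs).2), hd,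
        map_intCast, Int.cast_pow, sq]
    rw [Finset.sum_congr rfl hrow, ← Finset.mul_sum, Nat.cast_mul, mul_comm (Nat.card _ : ℂ),
      ← Int.cast_sum] at h
    have hK0 : (Nat.card K : ℂ) ≠ 0 := Nat.cast_ne_zero.2 Nat.card_pos.ne'
    have h' := mul_right_cancel₀ hK0 h
    exact_mod_cast h'
  · have h := CfsgLib.BlockReg.block_orthogonality hM
      (isPBlock_principalBlock (G := G) (M := M)) 1 x (by simp [hp.ne_one]) (by rw [hxo])
    rw [finsum_mem_eq_toFinset_sum] at h
    simp only [hd, map_intCast, ← CfsgLib.BlockReg.deg_cast] at h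
    have h' : ((∑ χ ∈ (principalBlock M G).toFinset,
        d χ * (charDegree (χ : G → ℂ) : ℤ) : ℤ) : ℂ) = ((0 : ℤ) : ℂ) := by
      push_cast
      rw [← h]
      exact Finset.sum_congr rfl fun χ _ => mul_comm _ _
    exact_mod_cast h'
  · have hcoeff : ∀ c : C, blockCoeff (principalBlock M C) c =
        if c ∈ K then blockCoeff (principalBlock M C) 1 else 0 := by
      intro c
      split_ifs with hc
      · unfold blockCoeff
        congr 1
        refine finsum_mem_congr rfl fun ψ hψ' => ?_
        rw [hψ ψ hψ' c hc]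
      · exact CfsgLib.BlockReg.blockCoeff_singular hM isPBlock_principalBlock c
          (not_not.1 fun h => hc ((hregK c).1 h))
    have hsum : ∀ χ : IrrCharacter G,
        (if χ ∈ principalBlock M G then (χ : G → ℂ) x else 0) =
          blockCoeff (principalBlock M C) 1 * ∑ c : K, (χ : G → ℂ) (x * ((c : C) : G)) := by
      intro χ
      rw [CfsgLib.Blk83.principal_apply_eq hM hxp χ, Finset.mul_sum]
      rw [Finset.sum_congr rfl (g := fun c : C => if c ∈ K then
        blockCoeff (principalBlock M C) 1 * (χ : G → ℂ) (x * (c : G)) else 0)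
        fun c _ => by rw [hcoeff c, ite_mul, zero_mul]]
      rw [← Finset.sum_filter]
      exact (Finset.sum_subtype _ (fun c => by simp) fun c : C =>
        blockCoeff (principalBlock M C) 1 * (χ : G → ℂ) (x * (c : G)))
    have hnorm : blockCoeff (principalBlock M C) 1 * (Nat.card K : ℂ) = 1 := by
      have h := hsum CfsgLib.Char.principalIrr
      simp only [principalIrr_mem_principalBlock, if_true, CfsgLib.Char.principalIrr_apply,
        Finset.sum_const, Finset.card_univ, nsmul_eq_mul, mul_one] at h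
      rw [Nat.card_eq_fintype_card]
      exact h.symm
    -- square roots in the section
    have hroots : ∑ c : K, Nat.card {y : G // y * y = x * ((c : C) : G)} = Nat.card K := by
      rw [← Nat.card_sigma]
      have hpodd : Odd p := hp.odd_of_ne_two hp2
      obtain ⟨h0, hh0⟩ := hpodd
      set y0 := x ^ (h0 + 1) with hy0
      have hy00 : y0 * y0 = x := by
        rw [hy0, ← pow_add, show h0 + 1 + (h0 + 1) = orderOf x + 1 by omega, pow_succ,
          pow_orderOf_eq_one, one_mul]
      have hsq1 : ∀ a : G, y0 * a * (y0 * a) = x * (y0⁻¹ * a * y0 * a) := fun a => by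
        rw [← hy00]; group
      have hsq2 : ∀ a : G, y0⁻¹ * (y0⁻¹ * a) * y0 * (y0⁻¹ * a) = x⁻¹ * (a * a) := fun a => by
        rw [← hy00]; group
      have hy0C : y0 ∈ C := pow_mem (Subgroup.mem_centralizer_singleton_iff.2 rfl) _
      refine (Nat.card_eq_of_bijective (fun z : K =>
        (⟨⟨(⟨y0, hy0C⟩ : C)⁻¹ * z * ⟨y0, hy0C⟩ * z,
          mul_mem (by simpa using hK.conj_mem _ z.2 (⟨y0, hy0C⟩ : C)⁻¹) z.2⟩,
          ⟨y0 * ((z : C) : G), ?_⟩⟩ :
            Σ c : K, {y : G // y * y = x * ((c : C) : G)})) ⟨?_, ?_⟩).symm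
      · exact hsq1 _
      · intro a b hab
        have h : y0 * ((a : C) : G) = y0 * ((b : C) : G) :=
          congrArg (fun s : Σ c : K, {y : G // y * y = x * ((c : C) : G)} => s.2.1) hab
        exact Subtype.ext (Subtype.ext (mul_left_cancel h))
      · rintro ⟨c, y, hy⟩
        have hcx : Commute x ((c : C) : G) :=
          (Subgroup.mem_centralizer_singleton_iff.1 (c : C).2).symm
        have hcK : ((c : C) : G) ^ Nat.card K = 1 := by
          exact congrArg (fun t : K => ((t : C) : G)) (pow_card_eq_one' (x := c))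
        have hyx : Commute y x := by
          have hco : Nat.Coprime (Nat.card K) (orderOf x) := by
            rw [hxo]; exact (hp.coprime_iff_not_dvd.mpr hKp).symm
          obtain ⟨j, hj⟩ := exists_pow_eq_self_of_coprime hco
          have hxeq : x = ((y * y) ^ Nat.card K) ^ j := by
            rw [hy, hcx.mul_pow, hcK, mul_one, hj]
          rw [hxeq]
          exact (((Commute.refl y).mul_right (Commute.refl y)).pow_right _).pow_right _
        have hyC : y ∈ C := Subgroup.mem_centralizer_singleton_iff.2 hyx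
        have hy0y : Commute y0 y := (hyx.pow_right _).symm
        have hz : (⟨y0, hy0C⟩ : C)⁻¹ * ⟨y, hyC⟩ ∈ K := by
          have hz2 : ((⟨y0, hy0C⟩ : C)⁻¹ * ⟨y, hyC⟩) ^ 2 = (c : C) := by
            refine Subtype.ext ?_
            show (y0⁻¹ * y) ^ 2 = ((c : C) : G)
            rw [hy0y.inv_left.mul_pow, inv_pow, sq, sq, hy, hy00, inv_mul_cancel_left]
          rw [← QuotientGroup.eq_one_iff, ← orderOf_eq_one_iff]
          refine Nat.eq_one_of_dvd_coprimes (a := 2) (b := p ^ k)
            (((Nat.coprime_primes Nat.prime_two hp).2 (Ne.symm hp2)).pow_right k)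
            (orderOf_dvd_of_pow_eq_one ?_) (hkK ▸ orderOf_dvd_natCard _)
          rw [← QuotientGroup.mk_pow, hz2, QuotientGroup.eq_one_iff]
          exact c.2
        refine ⟨⟨_, hz⟩, ?_⟩
        refine Sigma.subtype_ext (Subtype.ext (Subtype.ext ?_)) ?_
        · show y0⁻¹ * (y0⁻¹ * y) * y0 * (y0⁻¹ * y) = ((c : C) : G)
          rw [hsq2, hy, inv_mul_cancel_left]
        · show y0 * (y0⁻¹ * y) = y
          rw [mul_inv_cancel_left]
    calc ∑ χ ∈ (principalBlock M G).toFinset, CfsgLib.RealChar.fsInd (χ : G → ℂ) * (d χ : ℂ)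
        = ∑ χ : IrrCharacter G, CfsgLib.RealChar.fsInd (χ : G → ℂ) *
            (if χ ∈ principalBlock M G then (χ : G → ℂ) x else 0) := by
          simp only [mul_ite, mul_zero]
          rw [← Finset.sum_filter]
          exact Finset.sum_congr (by ext; simp) fun χ _ => by rw [hd]
      _ = blockCoeff (principalBlock M C) 1 *
            ∑ c : K, (Nat.card {y : G // y * y = x * ((c : C) : G)} : ℂ) := by
          simp only [hsum, Finset.mul_sum]
          rw [Finset.sum_comm]
          refine Finset.sum_congr rfl fun c _ => ?_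
          rw [← CfsgLib.RealChar.sum_fsInd_mul_apply, Finset.mul_sum]
          exact Finset.sum_congr rfl fun χ _ => by ring
      _ = 1 := by rw [← Nat.cast_sum, hroots, hnorm]

end CfsgLib.OneSection
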