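import Cfsg.Prelude.Def_Transfer
import Cfsg.Agent.Lib.Transfer.Fusion
import Cfsg.Agent.Lib.Transfer.PResidual
import Mathlib.GroupTheory.FixedPointFree

/-!
# Sylow subgroups whose non-identity elements form one class
-/

set_option autoImplicit false

open Cfsg
open scoped Pointwise

namespace CfsgLib.OneSection

variable {G : Type*} [Group G] [Finite G] {p : ℕ} [Fact p.Prime]

/-- If the non-identity elements of a `p`-subgroup are conjugate its exponent divides `p`. -/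
theorem pow_eq_one_of_conj {P : Subgroup G} (hP : IsPGroup p P)
    (hconj : ∀ u v : G, u ∈ P → v ∈ P → u ≠ 1 → v ≠ 1 → IsConj u v) {a : G} (ha : a ∈ P) :
    a ^ p = 1 := by
  by_cases ha1 : a = 1
  · rw [ha1, one_pow]
  have hdvd : p ∣ Nat.card P := by
    obtain ⟨k, hk⟩ := IsPGroup.iff_card.1 hP
    rcases Nat.eq_zero_or_pos k with h | h
    · rw [h, pow_zero] at hk
      exact absurd (Subgroup.mem_bot.1 ((Subgroup.eq_bot_of_card_eq P hk) ▸ ha)) ha1
    · exact hk ▸ dvd_pow_self p h.ne'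
  obtain ⟨b, hb⟩ := exists_prime_orderOf_dvd_card' p hdvd
  have hb' : orderOf (b : G) = p := by rw [Subgroup.orderOf_coe, hb]
  have hb1 : (b : G) ≠ 1 := fun h => (Fact.out : p.Prime).ne_one (by rw [← hb', h, orderOf_one])
  obtain ⟨c, hc⟩ := isConj_iff.1 (hconj (b : G) a b.2 ha hb1 ha1)
  rw [← hc, conj_pow, ← hb', pow_orderOf_eq_one, mul_one, mul_inv_cancel]

/-- Being elementary abelian passes to homomorphic images. -/
theorem isElementaryAbelian_map {G' : Type*} [Group G'] {A : Subgroup G}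
    (h : IsElementaryAbelian p A) (f : G →* G') : IsElementaryAbelian p (A.map f) := by
  refine ⟨⟨⟨?_⟩⟩, ?_⟩
  · rintro ⟨_, a, ha, rfl⟩ ⟨_, b, hb, rfl⟩
    refine Subtype.ext ?_
    show f a * f b = f b * f a
    rw [← map_mul, ← map_mul]
    exact congrArg f (congrArg Subtype.val (h.1.is_comm.comm ⟨a, ha⟩ ⟨b, hb⟩))
  · rintro _ ⟨a, ha, rfl⟩
    rw [← map_pow, h.2 a ha, map_one]

/-- An element of order prime to `p` normalizing `P` and fixing `a` in `P` fixes the centralizer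
of `a` in `P`, if the centralizer of `a` has a normal complement. -/
theorem commute_of_fix {P : Subgroup G} (hP : IsPGroup p P) {a : G}
    (hcomp : HasNormalPComplement p (Subgroup.centralizer ({a} : Set G))) {y : G}
    (hy : y ∈ Subgroup.normalizer (P : Set G)) (hyo : ¬ p ∣ orderOf y) (hya : y * a = a * y)
    {b : G} (hb : b ∈ P) (hba : b * a = a * b) : y * b = b * y := by
  have hp : p.Prime := Fact.out
  obtain ⟨K, hK, hKp, k, hk⟩ :=
    CfsgLib.Transfer.hasNormalPComplement_iff_exists_normal.mp hcomp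
  haveI := hK
  have hyC : y ∈ Subgroup.centralizer ({a} : Set G) :=
    Subgroup.mem_centralizer_singleton_iff.2 hya
  have hbC : b ∈ Subgroup.centralizer ({a} : Set G) :=
    Subgroup.mem_centralizer_singleton_iff.2 hba
  set y' : Subgroup.centralizer ({a} : Set G) := ⟨y, hyC⟩ with hy'
  set b' : Subgroup.centralizer ({a} : Set G) := ⟨b, hbC⟩ with hb'
  have hyK : y' ∈ K := by
    rw [← QuotientGroup.eq_one_iff, ← orderOf_eq_one_iff]
    have h3 : orderOf (y' : _ ⧸ K) ∣ p ^ k := hk ▸ orderOf_dvd_natCard _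
    refine Nat.eq_one_of_dvd_coprimes ((hp.coprime_iff_not_dvd.mpr hyo).pow_left k).symm ?_ h3
    rw [← Subgroup.orderOf_mk y hyC]
    exact orderOf_map_dvd (QuotientGroup.mk' K) y'
  have hcK : y' * (b' * y'⁻¹ * b'⁻¹) ∈ K :=
    mul_mem hyK (hK.conj_mem _ (inv_mem hyK) b')
  have hcP : y * b * y⁻¹ * b⁻¹ ∈ P :=
    mul_mem ((Subgroup.mem_normalizer_iff.1 hy b).1 hb) (inv_mem hb)
  have hcv : ((y' * (b' * y'⁻¹ * b'⁻¹) : Subgroup.centralizer ({a} : Set G)) : G) =
      y * b * y⁻¹ * b⁻¹ := by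
    simp [hy', hb', mul_assoc]
  obtain ⟨j, hj⟩ := IsPGroup.iff_orderOf.1 hP ⟨_, hcP⟩
  have h1 : orderOf (y' * (b' * y'⁻¹ * b'⁻¹)) ∣ Nat.card K := by
    have := orderOf_dvd_natCard (⟨_, hcK⟩ : K)
    rwa [Subgroup.orderOf_mk] at this
  rw [← Subgroup.orderOf_coe, hcv] at h1
  rw [Subgroup.orderOf_mk] at hj
  have h2 : orderOf (y * b * y⁻¹ * b⁻¹) = 1 :=
    Nat.eq_one_of_dvd_coprimes ((hp.coprime_iff_not_dvd.mpr hKp).pow_left j) (hj ▸ dvd_rfl) h1
  rw [orderOf_eq_one_iff, mul_inv_eq_one, mul_inv_eq_iff_eq_mul] at h2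
  exact h2

/-- A Sylow subgroup whose non-identity elements are conjugate and have centralizers with
normal complements is elementary abelian. -/
theorem isElementaryAbelian_of_conj_of_complement (P : Sylow p G)
    (hconj : ∀ u v : G, u ∈ (P : Subgroup G) → v ∈ (P : Subgroup G) → u ≠ 1 → v ≠ 1 → IsConj u v)
    (hcomp : ∀ u ∈ (P : Subgroup G), u ≠ 1 →
      HasNormalPComplement p (Subgroup.centralizer ({u} : Set G))) :
    IsElementaryAbelian p (P : Subgroup G) := by
  have hp : p.Prime := Fact.out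
  have hexp : ∀ a ∈ (P : Subgroup G), a ^ p = 1 := fun a ha =>
    pow_eq_one_of_conj P.2 hconj ha
  refine ⟨⟨⟨fun a b => ?_⟩⟩, hexp⟩
  rcases eq_or_ne p 2 with rfl | hp2
  · have hsq : ∀ c : (P : Subgroup G), c⁻¹ = c := fun c => inv_eq_of_mul_eq_one_right
      (by rw [← sq]; exact Subtype.ext (hexp c c.2))
    rw [← hsq (a * b), mul_inv_rev, hsq, hsq]
  rcases subsingleton_or_nontrivial (P : Subgroup G) with hs | hn
  · exact Subsingleton.elim _ _
  haveI : Nontrivial (Subgroup.center (P : Subgroup G)) := P.2.center_nontrivial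
  obtain ⟨z', hz'⟩ := exists_ne (1 : Subgroup.center (P : Subgroup G))
  set z : G := ((z' : (P : Subgroup G)) : G) with hz
  have hzP : z ∈ (P : Subgroup G) := (z' : (P : Subgroup G)).2
  have hz1 : z ≠ 1 := fun h => hz' (Subtype.ext (Subtype.ext h))
  have hzc : ∀ c ∈ (P : Subgroup G), c * z = z * c := fun c hc =>
    congrArg Subtype.val (Subgroup.mem_center_iff.1 z'.2 ⟨c, hc⟩)
  have hzz : z⁻¹ ≠ z := by
    intro h
    have h2 : z ^ 2 = 1 := by rw [sq]; nth_rw 1 [← h]; exact inv_mul_cancel z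
    have hz3 : orderOf z = p := orderOf_eq_prime (hexp z hzP) hz1
    exact hp2 ((Nat.prime_dvd_prime_iff_eq hp Nat.prime_two).1
      (hz3 ▸ orderOf_dvd_of_pow_eq_one h2))
  obtain ⟨g, hg⟩ := isConj_iff.1 (hconj z z⁻¹ hzP (inv_mem hzP) hz1 (inv_ne_one.2 hz1))
  have hzC : z ∈ Subgroup.centralizer ((P : Subgroup G) : Set G) :=
    Subgroup.mem_centralizer_iff.2 hzc
  obtain ⟨n, hn, hnz⟩ := CfsgLib.Transfer.burnside_fusion_central P hzC (inv_mem hzC) hg
  -- the part of `n` of two-power order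
  set m := orderOf n / 2 ^ (orderOf n).factorization 2 with hm
  set x := n ^ m with hx
  have hmodd : Odd m := Nat.not_even_iff_odd.1 fun h =>
    Nat.not_dvd_ordCompl Nat.prime_two (orderOf_pos n).ne' (even_iff_two_dvd.1 h)
  have hxpow : x ^ 2 ^ (orderOf n).factorization 2 = 1 := by
    rw [hx, ← pow_mul, mul_comm, hm, Nat.ordProj_mul_ordCompl_eq_self, pow_orderOf_eq_one]
  have hxo : ∀ i : ℕ, ¬ p ∣ orderOf (x ^ i) := by
    intro i h
    have h1 : orderOf (x ^ i) ∣ 2 ^ (orderOf n).factorization 2 :=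
      orderOf_dvd_of_pow_eq_one (by rw [← pow_mul, mul_comm, pow_mul, hxpow, one_pow])
    exact hp2 ((Nat.prime_dvd_prime_iff_eq hp Nat.prime_two).1 (hp.dvd_of_dvd_pow (h.trans h1)))
  have hxN : x ∈ Subgroup.normalizer ((P : Subgroup G) : Set G) := pow_mem hn m
  have hconjz : ∀ i : ℕ, n ^ i * z * (n ^ i)⁻¹ = if Even i then z else z⁻¹ := by
    intro i
    induction i with
    | zero => simp
    | succ i ih =>
      have h : n ^ (i + 1) * z * (n ^ (i + 1))⁻¹ = n * (n ^ i * z * (n ^ i)⁻¹) * n⁻¹ := by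
        rw [pow_succ']; group
      rw [h, ih]
      by_cases hi : Even i
      · rw [if_pos hi, hnz, if_neg (Nat.not_even_iff_odd.2 hi.add_one)]
      · rw [if_neg hi, if_pos (Nat.not_even_iff_odd.1 hi).add_one, ← conj_inv, hnz, inv_inv]
  have hxz : x * z * x⁻¹ = z⁻¹ := by
    rw [hx, hconjz, if_neg (Nat.not_even_iff_odd.2 hmodd)]
  have hx2z : x ^ 2 * z = z * x ^ 2 := mul_inv_eq_iff_eq_mul.1 (by
    rw [hx, ← pow_mul, hconjz, if_pos (even_two.mul_left m)])
  have hx2 : ∀ c ∈ (P : Subgroup G), x ^ 2 * c = c * x ^ 2 := fun c hc =>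
    commute_of_fix P.2 (hcomp z hzP hz1) (pow_mem hxN 2) (hxo 2) hx2z hc (hzc c hc)
  have hfix : ∀ c ∈ (P : Subgroup G), x * c * x⁻¹ = c → c = 1 := by
    intro c hc hcx
    by_contra hc1
    have h := commute_of_fix P.2 (hcomp c hc hc1) hxN (pow_one x ▸ hxo 1)
      (mul_inv_eq_iff_eq_mul.1 hcx) hzP (hzc c hc).symm
    rw [← mul_inv_eq_iff_eq_mul, hxz] at h
    exact hzz h
  let φ : (P : Subgroup G) →* (P : Subgroup G) :=
    { toFun := fun c => ⟨x * c * x⁻¹, (Subgroup.mem_normalizer_iff.1 hxN _).1 c.2⟩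
      map_one' := Subtype.ext (by simp)
      map_mul' := fun c d => Subtype.ext (by simp [mul_assoc]) }
  have h1 : MonoidHom.FixedPointFree φ := fun c hc =>
    Subtype.ext (hfix c c.2 (congrArg Subtype.val hc))
  have h2 : Function.Involutive φ := fun c => Subtype.ext (by
    show x * (x * c * x⁻¹) * x⁻¹ = c
    have := hx2 c c.2
    calc x * (x * c * x⁻¹) * x⁻¹ = x ^ 2 * c * (x ^ 2)⁻¹ := by rw [sq]; group
      _ = c := by rw [this, mul_inv_cancel_right])
  exact h1.commute_all_of_involutive h2 a b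

/-- A Sylow subgroup with all non-identity elements conjugate, over a nontrivial normal
`p`-subgroup, is elementary abelian. -/
theorem isElementaryAbelian_of_conj_of_normal (P : Sylow p G) (U : Subgroup G) [U.Normal]
    (hU : IsPGroup p U) (hU1 : U ≠ ⊥)
    (hconj : ∀ u v : G, u ∈ (P : Subgroup G) → v ∈ (P : Subgroup G) → u ≠ 1 → v ≠ 1 → IsConj u v) :
    IsElementaryAbelian p (P : Subgroup G) := by
  refine ⟨⟨⟨fun a b => Subtype.ext ?_⟩⟩, fun a ha => pow_eq_one_of_conj P.2 hconj ha⟩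
  have hUP : U ≤ (P : Subgroup G) := by
    obtain ⟨Q, hQ⟩ := hU.exists_le_sylow
    obtain ⟨g, rfl⟩ := MulAction.exists_smul_eq G Q P
    rw [Sylow.coe_subgroup_smul]
    calc U = MulAut.conj g • U := (Subgroup.Normal.conjAct ‹U.Normal› g).symm
      _ ≤ MulAut.conj g • (Q : Subgroup G) := Subgroup.map_mono hQ
  obtain ⟨u₀, hu₀U, hu₀1⟩ : ∃ u ∈ U, u ≠ 1 :=
    (U.bot_or_exists_ne_one).resolve_left hU1
  have hall : (P : Subgroup G) = U := le_antisymm (fun v hv => by
    by_cases hv1 : v = 1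
    · exact hv1 ▸ U.one_mem
    obtain ⟨c, rfl⟩ := isConj_iff.1 (hconj u₀ v (hUP hu₀U) hv hu₀1 hv1)
    exact Subgroup.Normal.conj_mem inferInstance u₀ hu₀U c) hUP
  haveI : Nontrivial (P : Subgroup G) :=
    ⟨⟨⟨u₀, hUP hu₀U⟩, 1, fun h => hu₀1 (congrArg Subtype.val h)⟩⟩
  haveI : Nontrivial (Subgroup.center (P : Subgroup G)) := P.2.center_nontrivial
  obtain ⟨z', hz'⟩ := exists_ne (1 : Subgroup.center (P : Subgroup G))
  have hz1 : ((z' : (P : Subgroup G)) : G) ≠ 1 := fun h => hz' (Subtype.ext (Subtype.ext h))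
  by_cases ha1 : (a : G) = 1
  · simp [ha1]
  obtain ⟨c, hc⟩ := isConj_iff.1
    (hconj _ a (z' : (P : Subgroup G)).2 a.2 hz1 ha1)
  have hb : c⁻¹ * b * c ∈ (P : Subgroup G) := by
    have h := Subgroup.Normal.conj_mem ‹U.Normal› (b : G) (hall ▸ b.2) c⁻¹
    rw [inv_inv] at h
    exact hUP h
  have h : c⁻¹ * b * c * ((z' : (P : Subgroup G)) : G) = ((z' : (P : Subgroup G)) : G) * (c⁻¹ * b * c) :=
    congrArg Subtype.val (Subgroup.mem_center_iff.1 z'.2 ⟨_, hb⟩)
  show (a : G) * b = b * a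
  rw [← hc]
  calc c * ((z' : (P : Subgroup G)) : G) * c⁻¹ * b
      = c * (((z' : (P : Subgroup G)) : G) * (c⁻¹ * b * c)) * c⁻¹ := by group
    _ = c * (c⁻¹ * b * c * ((z' : (P : Subgroup G)) : G)) * c⁻¹ := by rw [h]
    _ = b * (c * ((z' : (P : Subgroup G)) : G) * c⁻¹) := by group

end CfsgLib.OneSection
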