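import Cfsg.Agent.Lib.BlockOneSection.Sections
import Cfsg.Agent.Lib.BlockOneSection.Group
import Cfsg.Agent.Lib.Blocks.Okuyama
import Cfsg.Agent.S4646
import Cfsg.Agent.S4652

/-!
# Principal blocks with one character more than Brauer characters
-/

set_option autoImplicit false
set_option maxHeartbeats 800000
set_option synthInstance.maxHeartbeats 400000

open Cfsg CfsgLib.Blocks

namespace CfsgLib.OneSection

universe u

variable {G : Type u} [Group G] [Finite G] {p : ℕ} [Fact p.Prime] {M : Ideal AlgInt}

/-- The principal block of the centralizer of a `p`-element induces to the principal block. -/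
theorem isInducedBlock_principal (hM : IsPModular p M) {x : G}
    (hx : ∃ k : ℕ, orderOf x = p ^ k) :
    IsInducedBlock M (Subgroup.centralizer ({x} : Set G))
      (principalBlock M (Subgroup.centralizer ({x} : Set G))) (principalBlock M G) := by
  have := hM.2.1
  have := Fintype.ofFinite G
  exact (isInducedBlock_principal_iff hM
    (CfsgLib.BlockRank.exists_isInducedBlock_centralizer hM rfl hx
      isPBlock_principalBlock)).2 rfl

/-- A Sylow subgroup is a defect group of the principal block. -/
theorem isDefectGroup_sylow (hM : IsPModular p M) (P : Sylow p G) :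
    IsDefectGroup p M (principalBlock M G) (P : Subgroup G) := by
  have := Fintype.ofFinite G
  exact (Cfsg.Agent.S4652.result p M hM _).2 ⟨P, rfl⟩

/-- The elements of a Sylow subgroup have `p`-power order. -/
theorem exists_orderOf_eq_of_mem (P : Sylow p G) {u : G} (hu : u ∈ (P : Subgroup G)) :
    ∃ k : ℕ, orderOf u = p ^ k := by
  obtain ⟨k, hk⟩ := IsPGroup.iff_orderOf.1 P.2 ⟨u, hu⟩
  exact ⟨k, by rw [← hk, Subgroup.orderOf_mk]⟩

/-- All non-identity elements of a Sylow subgroup are conjugate. -/
theorem isConj_of_principal (hM : IsPModular p M)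
    (hk : Nat.card (principalBlock M G) = blockRank p (principalBlock M G) + 1) (P : Sylow p G)
    {u v : G} (hu : u ∈ (P : Subgroup G)) (hv : v ∈ (P : Subgroup G)) (hu1 : u ≠ 1) (hv1 : v ≠ 1) :
    IsConj u v :=
  have := hM.2.1
  isConj_of_mem_defect hM isPBlock_principalBlock hk (isDefectGroup_sylow hM P) hu hv hu1 hv1

/-- The centralizers of the non-identity `p`-elements have normal complements. -/
theorem hasNormalPComplement_centralizer (hM : IsPModular p M)
    (hk : Nat.card (principalBlock M G) = blockRank p (principalBlock M G) + 1)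
    {x : G} (hx : ∃ k : ℕ, orderOf x = p ^ k) (hx1 : x ≠ 1) :
    HasNormalPComplement p (Subgroup.centralizer ({x} : Set G)) := by
  have : M.IsMaximal := hM.2.1
  refine Cfsg.Agent.S4646.complement_of_blockRank_eq_one hM (le_antisymm ?_
    (CfsgLib.BlockRank.blockRank_pos (Fact.out : p.Prime).ne_one
      (CfsgLib.BlockReg.block_nonempty hM isPBlock_principalBlock)))
  exact (le_secRank (isInducedBlock_principal hM hx)).trans
    (secRank_le_one_of_card_eq hM isPBlock_principalBlock hk hx hx1)

/-- A non-identity section has rank exactly one. -/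
theorem secRank_eq_one (hM : IsPModular p M)
    (hk : Nat.card (principalBlock M G) = blockRank p (principalBlock M G) + 1)
    {x : G} (hx : ∃ k : ℕ, orderOf x = p ^ k) (hx1 : x ≠ 1) :
    secRank p M (principalBlock M G) x = 1 := by
  have : M.IsMaximal := hM.2.1
  exact le_antisymm (secRank_le_one_of_card_eq hM isPBlock_principalBlock hk hx hx1)
    (secRank_pos hM ⟨_, isInducedBlock_principal hM hx⟩)

/-- A Sylow subgroup is elementary abelian. -/
theorem isElementaryAbelian_sylow_principal (hM : IsPModular p M)
    (hk : Nat.card (principalBlock M G) = blockRank p (principalBlock M G) + 1) (P : Sylow p G) :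
    IsElementaryAbelian p (P : Subgroup G) :=
  isElementaryAbelian_of_conj_of_complement P
    (fun _ _ hu hv hu1 hv1 => isConj_of_principal hM hk P hu hv hu1 hv1)
    fun _ hu hu1 => hasNormalPComplement_centralizer hM hk (exists_orderOf_eq_of_mem P hu) hu1

end CfsgLib.OneSection
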