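import Cfsg.Agent.Lib.BlockRank.NilpotentAbelian
import Cfsg.Agent.S4733

/-!
# The `p`-sections met by a block
-/

set_option autoImplicit false
set_option maxHeartbeats 800000
set_option synthInstance.maxHeartbeats 400000

open Cfsg CfsgLib.Blocks CfsgLib.Blocks.Pairs CfsgLib.BlockRank
open scoped Classical

namespace CfsgLib.OneSection

universe u

variable {G : Type u} [Group G] [Finite G] {p : ℕ} [Fact p.Prime] {M : Ideal AlgInt}
  {B : Set (IrrCharacter G)}

/-- The number of Brauer characters of the blocks of the centralizer of `x` inducing `B`. -/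
noncomputable def secRank (p : ℕ) (M : Ideal AlgInt) (B : Set (IrrCharacter G)) (x : G) : ℕ :=
  ∑ᶠ b ∈ {b : Set (IrrCharacter (Subgroup.centralizer ({x} : Set G))) |
    IsInducedBlock M (Subgroup.centralizer ({x} : Set G)) b B}, blockRank p b

/-- An element of a defect group has a subsection of the block. -/
theorem exists_sub_of_mem (hM : IsPModular p M) (hB : IsPBlock M B) {D : Subgroup G}
    (hD : IsDefectGroup p M B D) {u : G} (hu : u ∈ D) :
    ∃ b, IsInducedBlock M (Subgroup.centralizer ({u} : Set G)) b B := by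
  have : M.IsMaximal := hM.2.1
  have : CharP (ResField M) p := charP_resField hM.1 hM.2.2
  have := Fintype.ofFinite G
  have hmax := (isDefectGroup_iff_maxR hM hB).1 hD
  obtain ⟨e, hP⟩ := exists_pairOf (p := p) (isBlockIdem_ebar hB) hmax.pgroup hmax.ne_zero
  obtain ⟨f, hf⟩ := (existsUnique_sle hP.pair (Subgroup.zpowers_le.2 hu)).1
  have hfB := (SLE.pairOf_iff hf).1 hP
  have hC : Subgroup.centralizer (Subgroup.zpowers u : Set G) =
      Subgroup.centralizer ({u} : Set G) := by
    rw [Subgroup.zpowers_eq_closure, Subgroup.centralizer_closure]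
  obtain ⟨b, hb, hbe⟩ := exists_eIn_eq (hC ▸ hfB.pair.block)
  exact ⟨b, (isInducedBlock_singleton_iff hM hfB.pair.pgroup hB hb).2 (hbe ▸ hfB)⟩

/-- A conjugate of an element with a subsection of the block has one. -/
theorem exists_sub_conj (hM : IsPModular p M) {u v : G} (hu : ∃ k : ℕ, orderOf u = p ^ k)
    (huv : IsConj u v) (h : ∃ b, IsInducedBlock M (Subgroup.centralizer ({u} : Set G)) b B) :
    ∃ b, IsInducedBlock M (Subgroup.centralizer ({v} : Set G)) b B := by
  have : M.IsMaximal := hM.2.1
  have : CharP (ResField M) p := charP_resField hM.1 hM.2.2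
  have := Fintype.ofFinite G
  obtain ⟨b₀, hb₀⟩ := h
  obtain ⟨g, rfl⟩ := isConj_iff.1 huv
  have hB : IsPBlock M B := hb₀.2.1
  have hfB := ((isInducedBlock_singleton_iff hM (isPGroup_zpowers hu) hB hb₀.1).1 hb₀).conj g
  rw [conjSub_zpowers] at hfB
  have hC : Subgroup.centralizer (Subgroup.zpowers (g * u * g⁻¹) : Set G) =
      Subgroup.centralizer ({g * u * g⁻¹} : Set G) := by
    rw [Subgroup.zpowers_eq_closure, Subgroup.centralizer_closure]
  obtain ⟨b, hb, hbe⟩ := exists_eIn_eq (hC ▸ hfB.pair.block)
  exact ⟨b, (isInducedBlock_singleton_iff hM hfB.pair.pgroup hB hb).2 (hbe ▸ hfB)⟩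

theorem le_secRank {x : G} {b : Set (IrrCharacter (Subgroup.centralizer ({x} : Set G)))}
    (hb : IsInducedBlock M (Subgroup.centralizer ({x} : Set G)) b B) :
    blockRank p b ≤ secRank p M B x := by
  rw [secRank, finsum_mem_eq_finite_toFinset_sum _ (Set.toFinite _)]
  exact Finset.single_le_sum (f := fun c => blockRank p c) (fun _ _ => Nat.zero_le _)
    ((Set.toFinite _).mem_toFinset.2 hb)

theorem secRank_pos (hM : IsPModular p M) {x : G}
    (h : ∃ b, IsInducedBlock M (Subgroup.centralizer ({x} : Set G)) b B) :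
    0 < secRank p M B x := by
  obtain ⟨b, hb⟩ := h
  have : M.IsMaximal := hM.2.1
  exact lt_of_lt_of_le (blockRank_pos (Fact.out : p.Prime).ne_one
    (CfsgLib.BlockReg.block_nonempty hM hb.1)) (le_secRank hb)

/-- The trivial section. -/
theorem le_secRank_one (hM : IsPModular p M) (hB : IsPBlock M B) :
    blockRank p B ≤ secRank p M B (1 : G) := by
  have : M.IsMaximal := hM.2.1
  have : CharP (ResField M) p := charP_resField hM.1 hM.2.2
  have := Fintype.ofFinite G
  obtain ⟨D, hD⟩ := exists_defectGroup hM hB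
  obtain ⟨b, hb⟩ := exists_sub_of_mem hM hB hD (one_mem D)
  have htop : Subgroup.centralizer ({(1 : G)} : Set G) = ⊤ :=
    (Subgroup.eq_top_iff' _).2 fun y =>
      Subgroup.mem_centralizer_singleton_iff.2 (by rw [mul_one, one_mul])
  let φ := (MulEquiv.subgroupCongr htop).trans Subgroup.topEquiv
  refine le_trans (le_of_eq ?_) (le_secRank hb)
  rw [eq_pullSet_of_central hM hB (isPGroup_zpowers ⟨0, by simp⟩) φ (fun _ => rfl) hb,
    blockRank_pullSet]

/-- Pairwise non-conjugate sections contribute at most the number of characters of the block. -/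
theorem sum_secRank_le (hM : IsPModular p M) (hB : IsPBlock M B) (S : Finset G)
    (hS : ∀ s ∈ S, ∃ k : ℕ, orderOf s = p ^ k)
    (hnc : ∀ s ∈ S, ∀ t ∈ S, IsConj s t → s = t) :
    ∑ s ∈ S, secRank p M B s ≤ Nat.card B := by
  have := Fintype.ofFinite G
  let r : G → G := fun g => if h : ∃ s ∈ S, IsConj g s then h.choose
    else Quotient.out (ConjClasses.mk g)
  have hr : ∀ g, IsConj g (r g) := by
    intro g
    simp only [r]
    split_ifs with h
    · exact h.choose_spec.2
    · exact (ConjClasses.mk_eq_mk_iff_isConj.1 (Quotient.out_eq (ConjClasses.mk g))).symm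
  have hrc : ∀ g g', IsConj g g' → r g = r g' := by
    intro g g' hgg
    simp only [r]
    by_cases h : ∃ s ∈ S, IsConj g s
    · have h' : ∃ s ∈ S, IsConj g' s :=
        ⟨h.choose, h.choose_spec.1, hgg.symm.trans h.choose_spec.2⟩
      rw [dif_pos h, dif_pos h']
      exact hnc _ h.choose_spec.1 _ h'.choose_spec.1
        ((h.choose_spec.2.symm.trans hgg).trans h'.choose_spec.2)
    · have h' : ¬ ∃ s ∈ S, IsConj g' s := fun ⟨s, hs, hc⟩ => h ⟨s, hs, hgg.trans hc⟩
      rw [dif_neg h, dif_neg h', ConjClasses.mk_eq_mk_iff_isConj.2 hgg]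
  have hrS : ∀ s ∈ S, r s = s := by
    intro s hs
    have h : ∃ t ∈ S, IsConj s t := ⟨s, hs, IsConj.refl s⟩
    simp only [r, dif_pos h]
    exact (hnc s hs _ h.choose_spec.1 h.choose_spec.2).symm
  have hord : ∀ g g' : G, IsConj g g' → orderOf g = orderOf g' := fun g g' h => by
    obtain ⟨c, rfl⟩ := isConj_iff.1 h
    exact (MulEquiv.orderOf_eq (MulAut.conj c) g).symm
  let X : Finset G := (Finset.univ.image r).filter fun x => ∃ k : ℕ, orderOf x = p ^ k
  have hX : ∀ x ∈ X, ∃ k : ℕ, orderOf x = p ^ k := fun x hx => (Finset.mem_filter.1 hx).2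
  have hXrep : ∀ g : G, (∃ k : ℕ, orderOf g = p ^ k) → ∃! x, x ∈ X ∧ IsConj g x := by
    intro g ⟨k, hk⟩
    refine ⟨r g, ⟨Finset.mem_filter.2
      ⟨Finset.mem_image.2 ⟨g, Finset.mem_univ _, rfl⟩, k, (hord _ _ (hr g)).symm.trans hk⟩,
      hr g⟩, ?_⟩
    rintro y ⟨hy, hgy⟩
    obtain ⟨g', -, rfl⟩ := Finset.mem_image.1 (Finset.mem_filter.1 hy).1
    exact hrc _ _ ((hr g').trans hgy.symm)
  rw [card_eq_sum_sections hM hB X hX hXrep]
  exact Finset.sum_le_sum_of_subset fun s hs => Finset.mem_filter.2
    ⟨Finset.mem_image.2 ⟨s, Finset.mem_univ _, hrS s hs⟩, hS s hs⟩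

/-- With one character more than Brauer characters all non-trivial subsections lie in one
class. -/
theorem isConj_of_card_eq (hM : IsPModular p M) (hB : IsPBlock M B)
    (hk : Nat.card B = blockRank p B + 1) {u v : G} (hu : ∃ k : ℕ, orderOf u = p ^ k)
    (hv : ∃ k : ℕ, orderOf v = p ^ k) (hu1 : u ≠ 1) (hv1 : v ≠ 1)
    (hsu : ∃ b, IsInducedBlock M (Subgroup.centralizer ({u} : Set G)) b B)
    (hsv : ∃ b, IsInducedBlock M (Subgroup.centralizer ({v} : Set G)) b B) : IsConj u v := by
  by_contra hne
  have huv : u ≠ v := fun h => hne (h ▸ IsConj.refl u)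
  have h := sum_secRank_le hM hB {1, u, v}
    (by
      intro s hs
      simp only [Finset.mem_insert, Finset.mem_singleton] at hs
      rcases hs with rfl | rfl | rfl
      · exact ⟨0, by simp⟩
      · exact hu
      · exact hv)
    (by
      intro s hs t ht hst
      simp only [Finset.mem_insert, Finset.mem_singleton] at hs ht
      rcases hs with rfl | rfl | rfl <;> rcases ht with rfl | rfl | rfl <;>
        first
        | rfl
        | exact absurd hst hne
        | exact absurd hst.symm hne
        | exact absurd (isConj_one_right.1 hst) hu1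
        | exact absurd (isConj_one_right.1 hst) hv1
        | exact absurd (isConj_one_left.1 hst) hu1
        | exact absurd (isConj_one_left.1 hst) hv1
        | exact absurd (isConj_one_right.1 hst.symm) hu1
        | exact absurd (isConj_one_right.1 hst.symm) hv1)
  rw [Finset.sum_insert (by simp [Ne.symm hu1, Ne.symm hv1]), Finset.sum_pair huv] at h
  have h1 := le_secRank_one hM hB
  have h2 := secRank_pos hM hsu
  have h3 := secRank_pos hM hsv
  omega

/-- The rank of a non-trivial section with one character more than Brauer characters. -/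
theorem secRank_le_one_of_card_eq (hM : IsPModular p M) (hB : IsPBlock M B)
    (hk : Nat.card B = blockRank p B + 1) {u : G} (hu : ∃ k : ℕ, orderOf u = p ^ k)
    (hu1 : u ≠ 1) : secRank p M B u ≤ 1 := by
  have h := sum_secRank_le hM hB {1, u}
    (by
      intro s hs
      simp only [Finset.mem_insert, Finset.mem_singleton] at hs
      rcases hs with rfl | rfl
      · exact ⟨0, by simp⟩
      · exact hu)
    (by
      intro s hs t ht hst
      simp only [Finset.mem_insert, Finset.mem_singleton] at hs ht
      rcases hs with rfl | rfl <;> rcases ht with rfl | rfl <;>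
        first
        | rfl
        | exact absurd (isConj_one_right.1 hst) hu1
        | exact absurd (isConj_one_right.1 hst.symm) hu1)
  rw [Finset.sum_pair (Ne.symm hu1)] at h
  have h1 := le_secRank_one hM hB
  omega

/-- The rank of a block with one character more than Brauer characters forces a non-trivial
defect group. -/
theorem card_le_of_defect_bot (hM : IsPModular p M) (hB : IsPBlock M B) {D : Subgroup G}
    (hD : IsDefectGroup p M B D) (hD1 : D = ⊥) : Nat.card B = blockRank p B := by
  have : M.IsMaximal := hM.2.1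
  have := Fintype.ofFinite G
  have h := card_defectGroup hM hB hD
  rw [hD1, Subgroup.card_bot] at h
  refine (Cfsg.Agent.S4733.result p M hM B hB).2.2.1 ?_
  by_contra hd
  exact (Fact.out : p.Prime).not_dvd_one (h ▸ dvd_pow_self p hd)

/-- All non-identity elements of a defect group are conjugate. -/
theorem isConj_of_mem_defect (hM : IsPModular p M) (hB : IsPBlock M B)
    (hk : Nat.card B = blockRank p B + 1) {D : Subgroup G} (hD : IsDefectGroup p M B D)
    {u v : G} (hu : u ∈ D) (hv : v ∈ D) (hu1 : u ≠ 1) (hv1 : v ≠ 1) : IsConj u v := by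
  have : M.IsMaximal := hM.2.1
  have : CharP (ResField M) p := charP_resField hM.1 hM.2.2
  have := Fintype.ofFinite G
  have hmax := (isDefectGroup_iff_maxR hM hB).1 hD
  have hord : ∀ w ∈ D, ∃ k : ℕ, orderOf w = p ^ k := fun w hw => by
    obtain ⟨k, hk⟩ := IsPGroup.iff_orderOf.1 hmax.pgroup ⟨w, hw⟩
    exact ⟨k, by rw [← hk, Subgroup.orderOf_mk]⟩
  exact isConj_of_card_eq hM hB hk (hord u hu) (hord v hv) hu1 hv1
    (exists_sub_of_mem hM hB hD hu) (exists_sub_of_mem hM hB hD hv)

end CfsgLib.OneSection
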