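import Cfsg.Agent.Lib.BlockOneSection.Sections
import Cfsg.Agent.Lib.BlockOneSection.Group
import Cfsg.Agent.Lib.Blocks.FongFull
import Cfsg.Agent.Lib.Blocks.FongReynolds
import Cfsg.Agent.Lib.TameRank.Solvable
import Cfsg.Agent.Lib.PLocal.PSolvable

/-!
# Blocks of `p`-solvable groups with one character more than Brauer characters
-/

set_option autoImplicit false
set_option maxHeartbeats 1000000
set_option synthInstance.maxHeartbeats 400000

namespace CfsgLib.OneSection

open Cfsg CfsgLib.CharTwist CfsgLib.Blocks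
open scoped Classical

universe u

variable {p : ℕ} [Fact p.Prime]

/-- A Sylow subgroup of a `p`-solvable group with conjugate non-identity elements. -/
theorem isElementaryAbelian_sylow_of_pSolvable {G : Type u} [Group G] [Finite G]
    (hsolv : IsPSolvable p G) (P : Sylow p G)
    (hconj : ∀ u v : G, u ∈ (P : Subgroup G) → v ∈ (P : Subgroup G) → u ≠ 1 → v ≠ 1 → IsConj u v) :
    IsElementaryAbelian p (P : Subgroup G) := by
  refine ⟨⟨⟨fun a b => ?_⟩⟩, fun a ha => pow_eq_one_of_conj P.2 hconj ha⟩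
  have hp : p.Prime := Fact.out
  set N := pPrimeCore p G with hNdef
  haveI : N.Normal := CfsgLib.Solvable.pPrimeCore_normal p G
  have hNco : (Nat.card N).Coprime p := hNdef ▸ CfsgLib.Solvable.pPrimeCore_card_coprime p G
  set π := QuotientGroup.mk' N with hπ
  have hinj : ∀ c ∈ (P : Subgroup G), π c = 1 → c = 1 := by
    intro c hc h
    rw [hπ, QuotientGroup.mk'_apply, QuotientGroup.eq_one_iff] at h
    obtain ⟨j, hj⟩ := IsPGroup.iff_orderOf.1 P.2 ⟨c, hc⟩
    rw [Subgroup.orderOf_mk] at hj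
    have h1 : orderOf c ∣ Nat.card N := by
      have := orderOf_dvd_natCard (⟨c, h⟩ : N)
      rwa [Subgroup.orderOf_mk] at this
    exact orderOf_eq_one_iff.1 (Nat.eq_one_of_dvd_coprimes (hNco.symm.pow_left j) (hj ▸ dvd_rfl) h1)
  set U := pCore p (G ⧸ N) with hU
  haveI : U.Normal := CfsgLib.Solvable.pCore_normal p (G ⧸ N)
  set P' : Sylow p (G ⧸ N) := P.mapSurjective (QuotientGroup.mk'_surjective N) with hP'
  have hcoe : ((P' : Subgroup (G ⧸ N)) : Subgroup (G ⧸ N)) = (P : Subgroup G).map π :=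
    Sylow.coe_mapSurjective _ _
  have hcomm : IsMulCommutative (P' : Subgroup (G ⧸ N)) := by
    by_cases hU1 : U = ⊥
    · have hcentU : Subgroup.centralizer (U : Set (G ⧸ N)) ≤ U :=
        CfsgLib.Blocks82.centralizer_pCore_le (CfsgLib.Blocks82.isPSolvable_quotient hsolv N)
          (CfsgLib.Solvable.pPrimeCore_quotient_eq_bot N hNdef)
      have hall : ∀ x : G ⧸ N, x = 1 := fun x => Subgroup.mem_bot.1 (hU1 ▸ hcentU
        (Subgroup.mem_centralizer_iff.2 fun c hc => by
          rw [SetLike.mem_coe, hU1, Subgroup.mem_bot] at hc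
          rw [hc, one_mul, mul_one]))
      exact ⟨⟨fun x y => Subtype.ext ((hall _).trans (hall _).symm)⟩⟩
    · refine (isElementaryAbelian_of_conj_of_normal P' U (CfsgLib.Components.isPGroup_pCore p)
        hU1 ?_).1
      intro u v hu hv hu1 hv1
      rw [hcoe] at hu hv
      obtain ⟨u₀, hu₀, rfl⟩ := hu
      obtain ⟨v₀, hv₀, rfl⟩ := hv
      exact MonoidHom.map_isConj π (hconj u₀ v₀ hu₀ hv₀ (fun h => hu1 (by rw [h, map_one]))
        (fun h => hv1 (by rw [h, map_one])))
  have h := congrArg Subtype.val (hcomm.is_comm.comm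
    ⟨π a, hcoe ▸ Subgroup.mem_map_of_mem π a.2⟩ ⟨π b, hcoe ▸ Subgroup.mem_map_of_mem π b.2⟩)
  replace h : π (a : G) * π (b : G) = π b * π a := h
  refine Subtype.ext ?_
  show (a : G) * b = b * a
  refine mul_inv_eq_one.1 (hinj _ (mul_mem (mul_mem a.2 b.2) (inv_mem (mul_mem b.2 a.2))) ?_)
  rw [map_mul, map_inv, map_mul, map_mul, h, mul_inv_cancel]

variable {M : Ideal AlgInt} [M.IsMaximal]

/-- A defect group of such a block is elementary abelian. -/
theorem isElementaryAbelian_defect (hM : IsPModular p M) (n : ℕ) :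
    ∀ (G : Type u) [Group G] [Finite G], Nat.card G = n → IsPSolvable p G →
      ∀ (B : Set (IrrCharacter G)), IsPBlock M B → Nat.card B = blockRank p B + 1 →
        ∀ D : Subgroup G, IsDefectGroup p M B D → IsElementaryAbelian p D := by
  induction n using Nat.strong_induction_on with
  | _ n ih =>
  intro G _ _ hn hsolv B hB hk D hD
  haveI : Fintype G := Fintype.ofFinite G
  set N := pPrimeCore p G with hNdef
  haveI : N.Normal := CfsgLib.Solvable.pPrimeCore_normal p G
  haveI : Fintype N := Fintype.ofFinite N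
  obtain ⟨χ, hχ⟩ := CfsgLib.BlockReg.block_nonempty hM hB
  obtain ⟨η, hη, hc⟩ := CfsgLib.Clifford.exists_constituent_res N χ.2
  set θ : IrrCharacter N := ⟨η, hη⟩ with hθ
  set T := inertia N (θ : N → ℂ) with hTdef
  by_cases hT : T = ⊤
  · have hinv : ∀ g : G, conjFun N (θ : N → ℂ) g = (θ : N → ℂ) := fun g =>
      mem_inertia.1 (show g ∈ T by rw [hT]; trivial)
    obtain ⟨B', hB', hmem, χ', hχ', hdeg⟩ := fong_full hM hsolv N hNdef θ hinv
    obtain rfl : B' = B := IsPBlock.eq_of_mem hB' hB ((hmem χ).2 hc) hχ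
    obtain ⟨S, rfl⟩ := (isDefectGroup_sylow_of_deg hM hB' hχ' hdeg).2 D hD
    exact isElementaryAbelian_sylow_of_pSolvable hsolv S fun u v hu hv hu1 hv1 =>
      isConj_of_mem_defect hM hB hk hD hu hv hu1 hv1
  · haveI : Fintype T := Fintype.ofFinite T
    have hNT : N ≤ T := le_inertia N (Char.IsIrrCharacter.isClassFunction θ.2)
    have hpp : p.Prime := Fact.out
    have hNco : (Nat.card N).Coprime p := hNdef ▸ CfsgLib.Solvable.pPrimeCore_card_coprime p G
    have hθblock : ({θ} : Set (IrrCharacter N)) = blockOf M (θ : N → ℂ) :=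
      ((Cfsg.Agent.S0914.result p M hM θ).1 fun h => (hpp.coprime_iff_not_dvd.1 hNco.symm)
        (h.trans (Nat.div_dvd_of_dvd (CfsgLib.BlockReg.deg_dvd_card θ)))).symm
    have hbθ : IsPBlock M ({θ} : Set (IrrCharacter N)) := hθblock ▸ isPBlock_blockOf θ
    have hTb : ∀ g : G, g ∈ T ↔ ∀ θ₁ ∈ ({θ} : Set (IrrCharacter N)),
        conjIrr N θ₁ g ∈ ({θ} : Set (IrrCharacter N)) := fun g => by
      simp only [Set.mem_singleton_iff, forall_eq, hTdef, mem_inertia]
      exact ⟨fun h => Subtype.ext (by rw [coe_conjIrr]; exact h),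
        fun h => by rw [← coe_conjIrr, h]⟩
    obtain ⟨ψ, hψo, hψe⟩ := exists_overSet_of_covers N T hNT hbθ hTb (χ := χ)
      ⟨θ, Set.mem_singleton θ, hc⟩
    set B' := blockOf M (ψ : T → ℂ) with hB'def
    have hB' : IsPBlock M B' := isPBlock_blockOf ψ
    have hψB' : ψ ∈ B' := mem_blockOf_self ψ
    obtain ⟨B₁, hind, -, hover, hmem⟩ := fongReynolds N T hNT hbθ hTb hB' hψB' hψo
    obtain rfl : B₁ = B :=
      IsPBlock.eq_of_mem hind.2.1 hB ((hmem χ).2 ⟨ψ, hψB', hψe⟩) hχ
    have hex : ∀ φ ∈ B', ∃ η : IrrCharacter G, (η : G → ℂ) = indFun T (φ : T → ℂ) ∧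
        ∀ φ' ∈ B', (η : G → ℂ) = indFun T (φ' : T → ℂ) → φ' = φ := by
      intro φ hφ
      obtain ⟨η, e, hnz, -, huniq⟩ := exists_indFun_overSet N T hNT hbθ hTb (hover φ hφ)
      refine ⟨η, e, fun φ' hφ' e' => huniq φ' (hover φ' hφ') ?_⟩
      obtain ⟨η', e'', hnz', -, -⟩ := exists_indFun_overSet N T hNT hbθ hTb (hover φ' hφ')
      obtain rfl : η' = η := Subtype.ext (e''.trans e'.symm)
      exact hnz'
    -- equally many characters
    have hcard : Nat.card B₁ = Nat.card B' := by
      choose f hf hf' using hex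
      refine (Nat.card_eq_of_bijective
        (fun φ : B' => (⟨f φ φ.2, (hmem _).2 ⟨φ, φ.2, hf φ φ.2⟩⟩ : B₁)) ⟨?_, ?_⟩).symm
      · intro a b hab
        refine Subtype.ext ?_
        have h : f a a.2 = f b b.2 := congrArg Subtype.val hab
        exact hf' b b.2 a a.2 (h ▸ hf a a.2)
      · rintro ⟨η, hη⟩
        obtain ⟨φ, hφ, e⟩ := (hmem η).1 hη
        exact ⟨⟨φ, hφ⟩, Subtype.ext (Subtype.ext ((hf φ hφ).trans e.symm))⟩
    -- no more Brauer characters
    have hrank : blockRank p B₁ ≤ blockRank p B' := by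
      let L : (T → ℂ) →ₗ[ℂ] (G → ℂ) := CfsgLib.Char.indLin (H := T)
      have himg : (fun η : IrrCharacter G => pRegularPart p (η : G → ℂ)) '' B₁ ⊆
          L '' ((fun φ : IrrCharacter T => pRegularPart p (φ : T → ℂ)) '' B') := by
        rintro _ ⟨η, hη, rfl⟩
        obtain ⟨φ, hφ, e⟩ := (hmem η).1 hη
        refine ⟨_, ⟨φ, hφ, rfl⟩, ?_⟩
        show indFun T (pRegularPart p (φ : T → ℂ)) = _
        rw [CfsgLib.TameRank.indFun_pRegularPart, ← e]
      unfold Cfsg.blockRank
      refine le_trans (Submodule.finrank_mono (Submodule.span_mono himg)) ?_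
      rw [Submodule.span_image]
      exact Submodule.finrank_map_le _ _
    have hle := (Cfsg.Agent.S4733.result p M hM B' hB')
    have hk' : Nat.card B' = blockRank p B' + 1 := by
      have hne : Nat.card B' ≠ blockRank p B' := by
        intro heq
        have h1 := hle.2.1.1 (hle.2.2.2 heq)
        have h2 := CfsgLib.BlockRank.blockRank_pos (p := p) hpp.ne_one
          (CfsgLib.BlockReg.block_nonempty hM hB)
        omega
      have := hle.1
      omega
    obtain ⟨hdef, -⟩ := fongReynolds_defect N T hNT hM hbθ hTb hB' hψB' hψo hind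
    obtain ⟨D', hD'⟩ := exists_defectGroup hM hB'
    obtain ⟨x, hx⟩ := defectGroup_conj hM hB (hdef D' hD') hD
    have hlt : Nat.card T < n := hn ▸ lt_of_le_of_ne (Subgroup.card_le_card_group T)
      fun h => hT (Subgroup.eq_top_of_card_eq T h)
    have hEA := ih _ hlt T rfl (CfsgLib.PLocal.isPSolvable_subgroup hsolv T) B' hB' hk' D' hD'
    rw [← hx]
    exact isElementaryAbelian_map (isElementaryAbelian_map hEA T.subtype)
      (MulAut.conj x).toMonoidHom

end CfsgLib.OneSection
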